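import Cfsg.Agent.Lib.Cert.Mat
import Cfsg.Agent.Lib.Cert.Out

set_option autoImplicit false
set_option maxRecDepth 100000

namespace Cfsg.Agent.Ct.M22o

open Cfsg.Agent.PC

open Cfsg.Agent.Fi Cfsg.Agent.Ct
def W_t : TL := (TL.node (TL.node (TL.node (TL.node (TL.leaf [nat_lit 3, nat_lit 3, nat_lit 3, nat_lit 3, nat_lit 2, nat_lit 2, nat_lit 3, nat_lit 1, nat_lit 4, nat_lit 4, nat_lit 4, nat_lit 4, nat_lit 4, nat_lit 4, nat_lit 3, nat_lit 3, nat_lit 3, nat_lit 3, nat_lit 0, nat_lit 4, nat_lit 4, nat_lit 4, nat_lit 4, nat_lit 4, nat_lit 4, nat_lit 2, nat_lit 2, nat_lit 4, nat_lit 4, nat_lit 4, nat_lit 4, nat_lit 4, nat_lit 4]) (TL.leaf [nat_lit 0, nat_lit 0, nat_lit 5, nat_lit 1, nat_lit 0, nat_lit 2, nat_lit 4, nat_lit 2, nat_lit 2, nat_lit 1, nat_lit 3, nat_lit 4, nat_lit 5, nat_lit 0])) (TL.node (TL.leaf [nat_lit 3, nat_lit 2, nat_lit 2, nat_lit 4, nat_lit 4, nat_lit 4, nat_lit 4, nat_lit 4, nat_lit 4, nat_lit 1, nat_lit 0, nat_lit 0, nat_lit 3])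 (TL.leaf []))) (TL.node (TL.node (TL.leaf [nat_lit 3, nat_lit 2, nat_lit 2, nat_lit 4, nat_lit 4, nat_lit 4, nat_lit 4, nat_lit 4, nat_lit 4, nat_lit 5, nat_lit 5, nat_lit 5, nat_lit 5, nat_lit 1, nat_lit 2, nat_lit 2, nat_lit 5, nat_lit 5, nat_lit 5, nat_lit 5, nat_lit 3, nat_lit 1]) (TL.leaf [nat_lit 3, nat_lit 3, nat_lit 3, nat_lit 3, nat_lit 3, nat_lit 3, nat_lit 3, nat_lit 3, nat_lit 5, nat_lit 5, nat_lit 5, nat_lit 5, nat_lit 0, nat_lit 2, nat_lit 2, nat_lit 0, nat_lit 0, nat_lit 5, nat_lit 0, nat_lit 0, nat_lit 1, nat_lit 4, nat_lit 2])) (TL.node (TL.leaf [nat_lit 0, nat_lit 5, nat_lit 5, nat_lit 5, nat_lit 5, nat_lit 2, nat_lit 5, nat_lit 5, nat_lit 5, nat_lit 5, nat_lit 2, nat_lit 4, nat_lit 4, nat_lit 4, nat_lit 4, nat_lit 4, nat_lit 4, nat_lit 2, nat_lit 4, nat_lit 3, nat_lit 2, nat_lit 2, nat_lit 5, nat_lit 5, nat_lit 3, nat_lit 3, nat_lit 3, nat_lit 3]) (TL.leaf [nat_lit 3, nat_lit 4, nat_lit 4, nat_lit 4, nat_lit 4, nat_lit 4, nat_lit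 4, nat_lit 2, nat_lit 3, nat_lit 3, nat_lit 4, nat_lit 5, nat_lit 1, nat_lit 5, nat_lit 4, nat_lit 0, nat_lit 0])))) (TL.node (TL.node (TL.node (TL.leaf [nat_lit 0, nat_lit 0, nat_lit 5, nat_lit 1, nat_lit 0, nat_lit 0, nat_lit 4, nat_lit 4, nat_lit 4, nat_lit 4, nat_lit 4, nat_lit 4, nat_lit 5, nat_lit 5, nat_lit 4]) (TL.leaf [nat_lit 3, nat_lit 2, nat_lit 2, nat_lit 4, nat_lit 4, nat_lit 4, nat_lit 4, nat_lit 4, nat_lit 4, nat_lit 5, nat_lit 5, nat_lit 5, nat_lit 5, nat_lit 1, nat_lit 4, nat_lit 4, nat_lit 4, nat_lit 4, nat_lit 4, nat_lit 4, nat_lit 3, nat_lit 3, nat_lit 3, nat_lit 3, nat_lit 2, nat_lit 4])) (TL.node (TL.leaf [nat_lit 0, nat_lit 0, nat_lit 5, nat_lit 1, nat_lit 0, nat_lit 0, nat_lit 2, nat_lit 2, nat_lit 5, nat_lit 0, nat_lit 0, nat_lit 1, nat_lit 4, nat_lit 4, nat_lit 4, nat_lit 4, nat_lit 4, nat_lit 4, nat_lit 0, nat_lit 0, nat_lit 5, nat_lit 4, nat_lit 2]) (TL.leaf [nat_lit 4, nat_lit 4, nat_lit 4, nat_lit 4, nat_lit 4, nat_lit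 4, nat_lit 2, nat_lit 2, nat_lit 1, nat_lit 0, nat_lit 0, nat_lit 3, nat_lit 4]))) (TL.node (TL.node (TL.leaf [nat_lit 0, nat_lit 0, nat_lit 1, nat_lit 0, nat_lit 3, nat_lit 4, nat_lit 5, nat_lit 5, nat_lit 5, nat_lit 5, nat_lit 2, nat_lit 0, nat_lit 5, nat_lit 2]) (TL.leaf [nat_lit 2, nat_lit 2, nat_lit 0, nat_lit 0, nat_lit 1, nat_lit 5, nat_lit 5, nat_lit 5, nat_lit 5, nat_lit 0, nat_lit 5, nat_lit 5, nat_lit 5, nat_lit 5, nat_lit 4, nat_lit 5, nat_lit 5, nat_lit 5, nat_lit 5, nat_lit 2, nat_lit 2, nat_lit 5, nat_lit 5, nat_lit 5, nat_lit 5, nat_lit 2, nat_lit 2, nat_lit 1])) (TL.leaf [nat_lit 4, nat_lit 4, nat_lit 4, nat_lit 4, nat_lit 4, nat_lit 4, nat_lit 2, nat_lit 2, nat_lit 5, nat_lit 5, nat_lit 5, nat_lit 5, nat_lit 5, nat_lit 5, nat_lit 5, nat_lit 5, nat_lit 4, nat_lit 0, nat_lit 4]))))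
noncomputable def W (i : ℕ) : List ℕ := TL.get W_t i
def Qf_t : TN := (TN.leaf (nat_lit 0xbd867825137b9a122a51a08aba9980bdaae2a08a7d0ec140d26a6711ac20bdab49ca307b9ac5a928398a418820b86b04a9a33a0868bece930ab15260ba6a209d745222624a6e7b0ad80ec0bd53693e686aa2b3088e38d942c020bd2c48cda2921e563ab03ac6932820bda55a4c2e5a0696c18a144a679c80baaa99b1e721852b169168d680c1c0b8e74aca072844924596521cd32de0b9272ad2ca7216c8352309e2579840b9ab29d0e882de91b98d21422546c0b9ab49c8ea73d6c6c1238d822410a0b92b49c8a35b5cc7a12a08a36818e0b96b49c88d40e0c52d2f106d171cc0))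
noncomputable def Qf (i : ℕ) : ℕ := get9 Qf_t (nat_lit 5) (nat_lit 31) i
noncomputable def Q (j c : ℕ) : ℕ := Qf (Nat.add (Nat.mul j (nat_lit 24)) c)
def B : List ℕ := [nat_lit 17, nat_lit 1, nat_lit 16, nat_lit 14, nat_lit 12, nat_lit 0, nat_lit 23]
noncomputable def q (j : ℕ) : G22 := ev (sub G22 (Spor.fam Spor.c24)) (W j)
noncomputable def f0 : ℕ → ℕ := tabE (Spor.TP Spor.c24) Q W (nat_lit 15)
theorem a0 : Nat.beq (rng f0 (nat_lit 0) (nat_lit 24)) (nat_lit 0) = true := by decide +kernel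
theorem h0 : ∀ i < 24, f0 i = 0 := by
  have h := zero_lt_zero f0
  have h := zero_lt_add (a := (nat_lit 0)) (n := (nat_lit 24)) (b := (nat_lit 24)) h a0 rfl
  exact h
theorem md : Md Spor.gp 24 B q Q 15 := (md22).words (by decide +kernel) h0
def R_t1 : TL := (TL.node (TL.node (TL.node (TL.node (TL.node (TL.node (TL.leaf []) (TL.leaf [nat_lit 0])) (TL.node (TL.leaf [nat_lit 0]) (TL.leaf [nat_lit 0]))) (TL.node (TL.node (TL.leaf [nat_lit 0]) (TL.leaf [nat_lit 0])) (TL.leaf [nat_lit 0]))) (TL.node (TL.node (TL.node (TL.leaf []) (TL.leaf [])) (TL.node (TL.leaf []) (TL.leaf []))) (TL.node (TL.node (TL.leaf []) (TL.leaf [])) (TL.leaf [])))) (TL.node (TL.node (TL.node (TL.node (TL.leaf []) (TL.leaf [])) (TL.node (TL.leaf []) (TL.leaf []))) (TL.node (TL.node (TL.leaf []) (TL.leaf [])) (TL.leaf []))) (TL.node (TL.node (TL.node (TL.leaf []) (TL.leaf [])) (TL.node (TL.leaf []) (TL.leaf []))) (TL.node (TL.node (TL.leaf []) (TL.leaf [])) (TL.leaf []))))) (TL.node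 (TL.node (TL.node (TL.node (TL.node (TL.leaf []) (TL.leaf [nat_lit 0])) (TL.node (TL.leaf []) (TL.leaf [nat_lit 3, nat_lit 4]))) (TL.node (TL.node (TL.leaf []) (TL.leaf [nat_lit 1, nat_lit 2, nat_lit 4])) (TL.leaf []))) (TL.node (TL.node (TL.node (TL.leaf []) (TL.leaf [])) (TL.node (TL.leaf []) (TL.leaf []))) (TL.node (TL.node (TL.leaf []) (TL.leaf [])) (TL.leaf [])))) (TL.node (TL.node (TL.node (TL.node (TL.leaf []) (TL.leaf [])) (TL.node (TL.leaf []) (TL.leaf []))) (TL.node (TL.node (TL.leaf []) (TL.leaf [])) (TL.leaf []))) (TL.node (TL.node (TL.node (TL.leaf []) (TL.leaf [])) (TL.node (TL.leaf []) (TL.leaf []))) (TL.node (TL.node (TL.leaf []) (TL.leaf [])) (TL.leaf []))))))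
def R_t2 : TL := (TL.node (TL.node (TL.node (TL.node (TL.node (TL.node (TL.leaf []) (TL.leaf [nat_lit 0, nat_lit 2])) (TL.node (TL.leaf []) (TL.leaf [nat_lit 1, nat_lit 2]))) (TL.node (TL.node (TL.leaf []) (TL.leaf [nat_lit 2])) (TL.leaf [nat_lit 0, nat_lit 2]))) (TL.node (TL.node (TL.node (TL.leaf []) (TL.leaf [])) (TL.node (TL.leaf []) (TL.leaf []))) (TL.node (TL.node (TL.leaf []) (TL.leaf [])) (TL.leaf [])))) (TL.node (TL.node (TL.node (TL.node (TL.leaf []) (TL.leaf [])) (TL.node (TL.leaf []) (TL.leaf []))) (TL.node (TL.node (TL.leaf []) (TL.leaf [])) (TL.leaf []))) (TL.node (TL.node (TL.node (TL.leaf []) (TL.leaf [])) (TL.node (TL.leaf []) (TL.leaf []))) (TL.node (TL.node (TL.leaf []) (TL.leaf [])) (TL.leaf []))))) (TL.node (TL.node (TL.node (TL.node (TL.node (TL.leaf []) (TL.leaf [])) (TL.node (TL.leaf []) (TL.leaf [nat_lit 0]))) (TL.node (TL.node (TL.leaf []) (TL.leaf [])) (TL.leaf []))) (TL.node (TL.node (TL.node (TL.leaf []) (TL.leaf []))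 (TL.node (TL.leaf []) (TL.leaf []))) (TL.node (TL.node (TL.leaf []) (TL.leaf [])) (TL.leaf [])))) (TL.node (TL.node (TL.node (TL.node (TL.leaf []) (TL.leaf [])) (TL.node (TL.leaf []) (TL.leaf []))) (TL.node (TL.node (TL.leaf []) (TL.leaf [])) (TL.leaf []))) (TL.node (TL.node (TL.node (TL.leaf []) (TL.leaf [])) (TL.node (TL.leaf []) (TL.leaf []))) (TL.node (TL.node (TL.leaf []) (TL.leaf [])) (TL.leaf []))))))
def R_t3 : TL := (TL.node R_t1 R_t2)
def R_t4 : TL := (TL.node (TL.node (TL.node (TL.node (TL.node (TL.node (TL.leaf []) (TL.leaf [nat_lit 0, nat_lit 1])) (TL.node (TL.leaf [nat_lit 1]) (TL.leaf [nat_lit 1]))) (TL.node (TL.node (TL.leaf []) (TL.leaf [nat_lit 0, nat_lit 1])) (TL.leaf [nat_lit 1]))) (TL.node (TL.node (TL.node (TL.leaf []) (TL.leaf [])) (TL.node (TL.leaf []) (TL.leaf []))) (TL.node (TL.node (TL.leaf []) (TL.leaf [])) (TL.leaf [])))) (TL.node (TL.node (TL.node (TL.node (TL.leaf []) (TL.leaf [])) (TL.node (TL.leaf []) (TL.leaf [])))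 (TL.node (TL.node (TL.leaf []) (TL.leaf [])) (TL.leaf []))) (TL.node (TL.node (TL.node (TL.leaf []) (TL.leaf [])) (TL.node (TL.leaf []) (TL.leaf []))) (TL.node (TL.node (TL.leaf []) (TL.leaf [])) (TL.leaf []))))) (TL.node (TL.node (TL.node (TL.node (TL.node (TL.leaf []) (TL.leaf [])) (TL.node (TL.leaf []) (TL.leaf [nat_lit 3, nat_lit 5]))) (TL.node (TL.node (TL.leaf []) (TL.leaf [nat_lit 2])) (TL.leaf []))) (TL.node (TL.node (TL.node (TL.leaf []) (TL.leaf [])) (TL.node (TL.leaf []) (TL.leaf []))) (TL.node (TL.node (TL.leaf []) (TL.leaf [])) (TL.leaf [])))) (TL.node (TL.node (TL.node (TL.node (TL.leaf []) (TL.leaf [])) (TL.node (TL.leaf []) (TL.leaf []))) (TL.node (TL.node (TL.leaf []) (TL.leaf [])) (TL.leaf []))) (TL.node (TL.node (TL.node (TL.leaf []) (TL.leaf [])) (TL.node (TL.leaf []) (TL.leaf []))) (TL.node (TL.node (TL.leaf []) (TL.leaf [])) (TL.leaf []))))))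
def R_t5 : TL := (TL.node (TL.node (TL.node (TL.node (TL.node (TL.node (TL.leaf []) (TL.leaf [nat_lit 0, nat_lit 3])) (TL.node (TL.leaf []) (TL.leaf [nat_lit 0, nat_lit 3]))) (TL.node (TL.node (TL.leaf []) (TL.leaf [nat_lit 1, nat_lit 3])) (TL.leaf [nat_lit 0]))) (TL.node (TL.node (TL.node (TL.leaf []) (TL.leaf [])) (TL.node (TL.leaf []) (TL.leaf []))) (TL.node (TL.node (TL.leaf []) (TL.leaf [])) (TL.leaf [])))) (TL.node (TL.node (TL.node (TL.node (TL.leaf []) (TL.leaf [])) (TL.node (TL.leaf []) (TL.leaf []))) (TL.node (TL.node (TL.leaf []) (TL.leaf [])) (TL.leaf []))) (TL.node (TL.node (TL.node (TL.leaf []) (TL.leaf [])) (TL.node (TL.leaf []) (TL.leaf []))) (TL.node (TL.node (TL.leaf []) (TL.leaf [])) (TL.leaf []))))) (TL.node (TL.node (TL.node (TL.node (TL.node (TL.leaf []) (TL.leaf [])) (TL.node (TL.leaf []) (TL.leaf []))) (TL.node (TL.node (TL.leaf []) (TL.leaf [])) (TL.leaf []))) (TL.node (TL.node (TL.node (TL.leaf []) (TL.leaf [])) (TL.node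 (TL.leaf []) (TL.leaf []))) (TL.node (TL.node (TL.leaf []) (TL.leaf [])) (TL.leaf [])))) (TL.node (TL.node (TL.node (TL.node (TL.leaf []) (TL.leaf [])) (TL.node (TL.leaf []) (TL.leaf []))) (TL.node (TL.node (TL.leaf []) (TL.leaf [])) (TL.leaf []))) (TL.node (TL.node (TL.node (TL.leaf []) (TL.leaf [])) (TL.node (TL.leaf []) (TL.leaf []))) (TL.node (TL.node (TL.leaf []) (TL.leaf [])) (TL.leaf []))))))
def R_t6 : TL := (TL.node R_t4 R_t5)
def R_t : TL := (TL.node R_t3 R_t6)
noncomputable def R (i : ℕ) : List ℕ := TL.get R_t i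
def Zm (i : ℕ) : ℕ := Nat.land (Nat.shiftRight (nat_lit 0x55d5755555565955555555555555555555555555555555556555556557555554) (Nat.mul (nat_lit 2) i)) (nat_lit 3)
def Zc (i : ℕ) : ℕ := Nat.land (Nat.shiftRight (nat_lit 0x8a28a28a28a28a28a28a28a28618618618618618618618618618618618618618618618618a28a28a28a28a28a28a28a28e38e38e38e38a28a28a28a28618618618618618618618618618618618618618618618618a28a28a28a28e38e3924000) (Nat.mul (nat_lit 6) i)) (nat_lit 63)
def U_t1 : TL := (TL.node (TL.node (TL.node (TL.node (TL.node (TL.node (TL.leaf [nat_lit 0]) (TL.leaf [nat_lit 0])) (TL.node (TL.leaf [nat_lit 0]) (TL.leaf [nat_lit 0]))) (TL.node (TL.node (TL.leaf [nat_lit 0]) (TL.leaf [nat_lit 0])) (TL.node (TL.leaf [nat_lit 0]) (TL.leaf [nat_lit 0])))) (TL.node (TL.node (TL.node (TL.leaf []) (TL.leaf [])) (TL.node (TL.leaf []) (TL.leaf []))) (TL.node (TL.node (TL.leaf []) (TL.leaf [])) (TL.node (TL.leaf []) (TL.leaf []))))) (TL.node (TL.node (TL.node (TL.node (TL.leaf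 []) (TL.leaf [])) (TL.node (TL.leaf []) (TL.leaf []))) (TL.node (TL.node (TL.leaf []) (TL.leaf [])) (TL.node (TL.leaf []) (TL.leaf [])))) (TL.node (TL.node (TL.node (TL.leaf []) (TL.leaf [])) (TL.node (TL.leaf []) (TL.leaf []))) (TL.node (TL.node (TL.leaf []) (TL.leaf [])) (TL.node (TL.leaf []) (TL.leaf [])))))) (TL.node (TL.node (TL.node (TL.node (TL.node (TL.leaf [nat_lit 4]) (TL.leaf [nat_lit 4])) (TL.node (TL.leaf [nat_lit 0, nat_lit 4]) (TL.leaf [nat_lit 3, nat_lit 4]))) (TL.node (TL.node (TL.leaf [nat_lit 0, nat_lit 4]) (TL.leaf [nat_lit 1, nat_lit 2, nat_lit 4])) (TL.node (TL.leaf [nat_lit 0, nat_lit 4]) (TL.leaf [nat_lit 1, nat_lit 2, nat_lit 4])))) (TL.node (TL.node (TL.node (TL.leaf []) (TL.leaf [])) (TL.node (TL.leaf []) (TL.leaf []))) (TL.node (TL.node (TL.leaf []) (TL.leaf [])) (TL.node (TL.leaf []) (TL.leaf []))))) (TL.node (TL.node (TL.node (TL.node (TL.leaf []) (TL.leaf [])) (TL.node (TL.leaf []) (TL.leaf []))) (TL.node (TL.node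 (TL.leaf []) (TL.leaf [])) (TL.node (TL.leaf []) (TL.leaf [])))) (TL.node (TL.node (TL.node (TL.leaf []) (TL.leaf [])) (TL.node (TL.leaf []) (TL.leaf []))) (TL.node (TL.node (TL.leaf []) (TL.leaf [])) (TL.node (TL.leaf []) (TL.leaf [])))))))
def U_t2 : TL := (TL.node (TL.node (TL.node (TL.node (TL.node (TL.node (TL.leaf [nat_lit 2]) (TL.leaf [nat_lit 0, nat_lit 2])) (TL.node (TL.leaf [nat_lit 2]) (TL.leaf [nat_lit 1, nat_lit 2]))) (TL.node (TL.node (TL.leaf [nat_lit 2]) (TL.leaf [nat_lit 2])) (TL.node (TL.leaf [nat_lit 0, nat_lit 2]) (TL.leaf [nat_lit 0, nat_lit 1])))) (TL.node (TL.node (TL.node (TL.leaf []) (TL.leaf [])) (TL.node (TL.leaf []) (TL.leaf []))) (TL.node (TL.node (TL.leaf []) (TL.leaf [])) (TL.node (TL.leaf []) (TL.leaf []))))) (TL.node (TL.node (TL.node (TL.node (TL.leaf []) (TL.leaf [])) (TL.node (TL.leaf []) (TL.leaf []))) (TL.node (TL.node (TL.leaf []) (TL.leaf [])) (TL.node (TL.leaf []) (TL.leaf [])))) (TL.node (TL.node (TL.node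 (TL.leaf []) (TL.leaf [])) (TL.node (TL.leaf []) (TL.leaf []))) (TL.node (TL.node (TL.leaf []) (TL.leaf [])) (TL.node (TL.leaf []) (TL.leaf [])))))) (TL.node (TL.node (TL.node (TL.node (TL.node (TL.leaf []) (TL.leaf [])) (TL.node (TL.leaf []) (TL.leaf []))) (TL.node (TL.node (TL.leaf []) (TL.leaf [])) (TL.node (TL.leaf []) (TL.leaf [])))) (TL.node (TL.node (TL.node (TL.leaf []) (TL.leaf [])) (TL.node (TL.leaf []) (TL.leaf []))) (TL.node (TL.node (TL.leaf []) (TL.leaf [])) (TL.node (TL.leaf []) (TL.leaf []))))) (TL.node (TL.node (TL.node (TL.node (TL.leaf []) (TL.leaf [])) (TL.node (TL.leaf []) (TL.leaf []))) (TL.node (TL.node (TL.leaf []) (TL.leaf [])) (TL.node (TL.leaf []) (TL.leaf [])))) (TL.node (TL.node (TL.node (TL.leaf []) (TL.leaf [])) (TL.node (TL.leaf []) (TL.leaf []))) (TL.node (TL.node (TL.leaf []) (TL.leaf [])) (TL.node (TL.leaf []) (TL.leaf [])))))))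
def U_t3 : TL := (TL.node U_t1 U_t2)
def U_t4 : TL := (TL.node (TL.node (TL.node (TL.node (TL.node (TL.node (TL.leaf [nat_lit 1]) (TL.leaf [nat_lit 0, nat_lit 1])) (TL.node (TL.leaf [nat_lit 1]) (TL.leaf [nat_lit 1]))) (TL.node (TL.node (TL.leaf [nat_lit 1]) (TL.leaf [nat_lit 0, nat_lit 1])) (TL.node (TL.leaf [nat_lit 1]) (TL.leaf [nat_lit 2])))) (TL.node (TL.node (TL.node (TL.leaf []) (TL.leaf [])) (TL.node (TL.leaf []) (TL.leaf []))) (TL.node (TL.node (TL.leaf []) (TL.leaf [])) (TL.node (TL.leaf []) (TL.leaf []))))) (TL.node (TL.node (TL.node (TL.node (TL.leaf []) (TL.leaf [])) (TL.node (TL.leaf []) (TL.leaf []))) (TL.node (TL.node (TL.leaf []) (TL.leaf [])) (TL.node (TL.leaf []) (TL.leaf [])))) (TL.node (TL.node (TL.node (TL.leaf []) (TL.leaf [])) (TL.node (TL.leaf []) (TL.leaf []))) (TL.node (TL.node (TL.leaf []) (TL.leaf [])) (TL.node (TL.leaf []) (TL.leaf [])))))) (TL.node (TL.node (TL.node (TL.node (TL.node (TL.leaf [nat_lit 5]) (TL.leaf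 [nat_lit 0, nat_lit 1, nat_lit 2, nat_lit 5])) (TL.node (TL.leaf [nat_lit 5]) (TL.leaf [nat_lit 3, nat_lit 5]))) (TL.node (TL.node (TL.leaf [nat_lit 0, nat_lit 5]) (TL.leaf [nat_lit 5])) (TL.node (TL.leaf [nat_lit 0, nat_lit 1, nat_lit 5]) (TL.leaf [nat_lit 0, nat_lit 1, nat_lit 2, nat_lit 4, nat_lit 5])))) (TL.node (TL.node (TL.node (TL.leaf []) (TL.leaf [])) (TL.node (TL.leaf []) (TL.leaf []))) (TL.node (TL.node (TL.leaf []) (TL.leaf [])) (TL.node (TL.leaf []) (TL.leaf []))))) (TL.node (TL.node (TL.node (TL.node (TL.leaf []) (TL.leaf [])) (TL.node (TL.leaf []) (TL.leaf []))) (TL.node (TL.node (TL.leaf []) (TL.leaf [])) (TL.node (TL.leaf []) (TL.leaf [])))) (TL.node (TL.node (TL.node (TL.leaf []) (TL.leaf [])) (TL.node (TL.leaf []) (TL.leaf []))) (TL.node (TL.node (TL.leaf []) (TL.leaf [])) (TL.node (TL.leaf []) (TL.leaf [])))))))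
def U_t5 : TL := (TL.node (TL.node (TL.node (TL.node (TL.node (TL.node (TL.leaf [nat_lit 3]) (TL.leaf [nat_lit 0, nat_lit 3])) (TL.node (TL.leaf [nat_lit 0, nat_lit 3]) (TL.leaf [nat_lit 0, nat_lit 3]))) (TL.node (TL.node (TL.leaf [nat_lit 3]) (TL.leaf [nat_lit 1, nat_lit 3])) (TL.node (TL.leaf [nat_lit 3]) (TL.leaf [nat_lit 2, nat_lit 3, nat_lit 4])))) (TL.node (TL.node (TL.node (TL.leaf []) (TL.leaf [])) (TL.node (TL.leaf []) (TL.leaf []))) (TL.node (TL.node (TL.leaf []) (TL.leaf [])) (TL.node (TL.leaf []) (TL.leaf []))))) (TL.node (TL.node (TL.node (TL.node (TL.leaf []) (TL.leaf [])) (TL.node (TL.leaf []) (TL.leaf []))) (TL.node (TL.node (TL.leaf []) (TL.leaf [])) (TL.node (TL.leaf []) (TL.leaf [])))) (TL.node (TL.node (TL.node (TL.leaf []) (TL.leaf [])) (TL.node (TL.leaf []) (TL.leaf []))) (TL.node (TL.node (TL.leaf []) (TL.leaf [])) (TL.node (TL.leaf []) (TL.leaf [])))))) (TL.node (TL.node (TL.node (TL.node (TL.node (TL.leaf []) (TL.leaf []))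 (TL.node (TL.leaf []) (TL.leaf []))) (TL.node (TL.node (TL.leaf []) (TL.leaf [])) (TL.node (TL.leaf []) (TL.leaf [])))) (TL.node (TL.node (TL.node (TL.leaf []) (TL.leaf [])) (TL.node (TL.leaf []) (TL.leaf []))) (TL.node (TL.node (TL.leaf []) (TL.leaf [])) (TL.node (TL.leaf []) (TL.leaf []))))) (TL.node (TL.node (TL.node (TL.node (TL.leaf []) (TL.leaf [])) (TL.node (TL.leaf []) (TL.leaf []))) (TL.node (TL.node (TL.leaf []) (TL.leaf [])) (TL.node (TL.leaf []) (TL.leaf [])))) (TL.node (TL.node (TL.node (TL.leaf []) (TL.leaf [])) (TL.node (TL.leaf []) (TL.leaf []))) (TL.node (TL.node (TL.leaf []) (TL.leaf [])) (TL.node (TL.leaf []) (TL.leaf [])))))))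
def U_t6 : TL := (TL.node U_t4 U_t5)
def U_t : TL := (TL.node U_t3 U_t6)
noncomputable def U (i : ℕ) : List ℕ := TL.get U_t i
noncomputable def f1 : ℕ → ℕ := mvE Q (nat_lit 24) (nat_lit 2) (nat_lit 7) Zm
theorem b0 : Nat.beq (rng f1 (nat_lit 0) (nat_lit 128)) (nat_lit 0) = true := by decide +kernel
theorem h1 : ∀ i < 128, f1 i = 0 := by
  have h := zero_lt_zero f1
  have h := zero_lt_add (a := (nat_lit 0)) (n := (nat_lit 128)) (b := (nat_lit 128)) h b0 rfl
  exact h
theorem sy : Sy q 2 7 R := md.sy' (by decide) (by decide) (upTo_beq (by decide +kernel)) (pr := 128) rfl h1 (by rw [Spor.card22]; decide)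
noncomputable def f2 : ℕ → ℕ := ncE Q (nat_lit 24) (nat_lit 6) (nat_lit 7) (nat_lit 64) Zc
theorem c0 : Nat.beq (rng f2 (nat_lit 0) (nat_lit 128)) (nat_lit 0) = true := by decide +kernel
theorem h2 : ∀ i < 128, f2 i = 0 := by
  have h := zero_lt_zero f2
  have h := zero_lt_add (a := (nat_lit 0)) (n := (nat_lit 128)) (b := (nat_lit 128)) h c0 rfl
  exact h
def sg (i : ℕ) : ℕ := Nat.land (Nat.shiftRight (nat_lit 47768) (Nat.mul (nat_lit 4) i)) (nat_lit 15)
def si (i : ℕ) : ℕ := Nat.land (Nat.shiftRight (nat_lit 43913) (Nat.mul (nat_lit 4) i)) (nat_lit 15)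
def V_t : TN := (TN.node (TN.node (TN.leaf (nat_lit 0x5998e13b29c05d6302cce70175cc044e1c0008180b4a601c30c004514297738414a801660c014494d9764186b0809c2500b4c9c08303104d0808c98e0d341c309c38ccea800208a0e529c9d60400b4c603664c14501c67674114ec909a7100d139c673740baee80009c814c11c02993804e6502720c4e64a00000000012305c94e131820030c281b4a801688c01929c9ca040e64e809708e01381819a23813407070dce00180c029728053250017084653a027723804ea7269c900331980d9d30b414802970c192d1c28d63814b4800ca4e119aa01a633819b060a0a0e01941c26293834e6702080e019b94016028641270160cc001b0c370a380138403694c00c49401822804c47096250013298020c3934b48099a50033918c360401306805a70e00130c25da40134480000c62d12a0075a300466500768a504ea0667740646e71d9990011b186299401aec800358812ec20232938001a40259903341a0265840334e709a5ce1ace1c209a38192e82736900314180c963033847000248004494008d280538509c8ce06139830d638cce0800598a00118c076630134c702360e0e181c167638144a600830a034d18002818c61a8025a0e0b991c0082206cc0700260c10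469c0699303992720a0d004eb9800973012ce705d74e0bac9c0708300e6a600320c00e194096038044e6008a0c00b81408233010607175a50000510827741332c800a24e034e98007320346a700230806b3200a5c402d0470098ca04d19800da2014c6802630e0b4b9c169638144a801664c464620026838046470a730e0134980233380cc0600c80a0e141c28ca38106a7070cce000c0c175a38cc14800a30a00c5140175284eb270d824e0034100d82300d14609971041b42407723003b850008c80011100a5d3014e061a35d00c649c2099400c4a606680e011b980dcd3041947059dce003490089d3801b4606764e01451400d720139a60d98ce010494209d38192e606698e01ae9c0c9640c51480259d0134b1c19c3385394700cc0a044d1c269d380134601d9cc6cd3a0002218134e700c24a0338189ca640ecb280c35ce0613180a603002ce500658a032e980327284c60700c98a053a98019728134e616831001981c09a630193463258d0039b18230940019240cda4e01901c19773812ca7065d8e31412001cd28519870232500134940065253940901d74c1946241d76384d34719a710192c1c18a0399b4c81c295004ce2029d7380cb4605a24e192e9c08253802ca500360804b11c68a54000184099dd2386ca000ca303ad070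5830e14139c19c83844ea701da0c3464a003692812ea702330c01381437333814e46029ccc004c1008cd38133470d6252041820009928131460018c80641180c833000c4403281004b19ca30d406c6c705cd4e3ad320097238331a717321002e19870a04051b0700a60e334ba06728400506501a24c0b841c03662804d270d9c8e01b19c08dc3804cc50665ce04e1a00036280040503368c06ce180a6730134a7030a0c11981c00091002c4500d80a19469c03583802d25008ccc001994665c40394071698d064c52000a7214e52801970c6cb920008330131260c980e3b44a008373006e6530dc900134148c82419b4480308cc0c511c075c304e6c702634c000308070a3001904018a4c12e6208336400398502664e06c49800c33064c4703634c004b1400c930119480629ce19b41c00cd301186700c34a052ea00899381b34603724c05329800051004ee50365cc00ec94099930106e809a64e03991800d730339a705dcce131a9c09c9302ec47020d4c01ac9c020d28bad0809cd4e0eb31c09c84004c66000808314620025a300b90600688a0c619c1a32380112608cd4e04cea008a330052c7035c0c0b999c0262282d06702688c1b041c0a283013b080359d000068830a7384512700708a004b180226310504808999004b31c0c323013ac600094a3ae6a0069c30113a600820c11461c068d3013467001c880bac1c072330114a703280c0000088276414e64802328c33b02000832001b26))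 (TN.leaf (nat_lit 0x304981d8a38114080c964e4134a428a6380066300820a0ced1c5a72400c66600330c00111420d6384660826689013ac1c068c30106e700830c04b1a000c220012e401960c06b1a000351812ca8262590041398328c380004102098e0d3b1c099a301aca800280804511c30d8381ad060270ce14cb1c32833801326025d4c112d1c0da03006667298210012e9c036939319081699d01b2e9c5832404e40702708c131aa009a031384e9000042000d0c01d6280198406670e4e4e200c8c306b9870075ca0519980a3230330470660ce0666a03267384d3a80c998e01129426653834ca7001648b414240c98304e4a80a5c8e4646a41963384b328160a50139b9c083630cc188028d4c06111818a338066a72320d00b4c1c037228eb948001c0814ec9c00071014ec608c8ce004e9008c238012e505980e01b414a763404e18900230c0c531cd97340014c400ca4a119ba001992864c67001808192ea4008c2804e07028c0c013418d68a4000643075a4e314e2007293046e08))) (TN.leaf (nat_lit 0x83290012c1c00c32012c4800d68a041b1c0d6240cb1a800cd8e066c9800582061b8702098c004c9009c238039050000c21b341c0a0a30033a5068d8e0cb49c06323003b050008ca12eb1c1a60385130702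09ce04b818019a2846188026990003310009d301ace60230d0466620083238112e600ca0a014c1420cd38034c5000a466c10205d6541b99880d964e051b1808d63866c47000d4a4e4c2002593801944098d901ad3a41a29381b846008d4c004510036538b4d0809a610002e90229d4191908005c8a14c49c05c230466e700980e3ad3a0a32840191a609d75219041c36833805045000c8a0119180759302d34709c94e065318230d400cd060099ca0ed39c09dc3006ce50033480b069c00372806c0706658e12e4a00a6630004a3019a4c004d10098338312e7033650146c9c0973384e50700c20a006c9006303000b440099ce112e1c08a23061b4701cccc02ce98083640114e70ca0920d181c5d60404ece7009d8a01869c176338d306832081064b9219cda4841b4720da521acca41d673801ac605da4e01311805dc300112400a5ce001290020a300346506308e06cb1818cd383b347089d5006b3180067204646825c2902d13200769300032300a68a02ed18272938146e6035a50033a98675d4041b2700d68e00060820dc403918766975261b4a008d738ec508360950012c98017328001020370cc31932029993804ca702258c13981c08333813b4801d80c19451c01a7281b308026950051398825848119a602330e451920233238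4c667000002184c9c08333053b0708ccce0c651c0229300052502988c013998018c2813986198d90106c240da740141a61a68d011929c0a63301412609cc8e013918372538144c602324c041918029a392e64916961013191ca765400004207688e0ceb9c266840003a3001d4811901c0232280bb06069c8e2eb9a0082933991a901608c01b814097230066c5030d4c04e518160a3804505000c0a001b8c5c204018526275950012e98323638004e309969002e61809a53004b060268d000010c209c381130708280e2ccc20258c4013048019ccc012e14000820394e709a70e013b1c1d99386cce700a34a4e6ba020c840044e567371211aea005c9314b928196950005398669d40b41a800270a06e6181662384190700298c0386980272285306700c8ce0bae1c225838131a700028401301800262001345008a0e051498325c382e1a702624e0045182277400c4e60d998e013b9c2289446538900898a0cce9c2625384134805cc0e332d202696403b2c701734c1ae51c0017183ae6700898e04641c6709401052702265012e4205d76400b4e606898e1b2e1c6736404c4e80020ca399320016828386c7269a1012e19c09d9400614500360c01181c1d8d38533470029483b4e2000161806b8500824c134ba007653006cc708298e0eb91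c06653013b2605c80e04e41c209640193a60a0d8e00ce1401ca28004c508c29001b2949c82480e50603288c033b98098c305192700d88a53b0201ca238506e719835001b19419a53806187030d8c4c52a00c9930512e70999d00ce51c0359284d187099a0e1b2d1c35a23844ee7005dca0cec1c067630194a8070a4e4c6c2009773804e470d68ce1b349c082830194a601a60c00bb14009c300038308989002c4980020184144700828a14619c26363819988008c0c2d2e2022763812ec709c31001ae940ca330186e609c810046418260c406e1a700834e1064a0002728c618803660c003b10265d401938602658e00511076694001b8400834c012e941973380130503728c12cc2009d74041b480028c80ee49c09973800ee405994e345320098a38033050d70ce0191940d73304b948075d4e0651a0a728400ec4609d68e0333987323404e4e709720e0ccc1c0662301392702899002e518209c40139a700c94a02d01800a530cbb2800288c6b99a0260d4004cc60c8cce4d32a032323804ce6269d50001416320d49ae18807320e013a940d72300ec660d708e1041a0729d4004b8600a74a0ee41c0666304e4c7)))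
noncomputable def V (i : ℕ) : ℕ := get9 V_t (nat_lit 23) (nat_lit 0x7fffff) i
noncomputable def f3 : ℕ → ℕ := clE Q sg si (nat_lit 24) (nat_lit 0) [nat_lit 17, nat_lit 1, nat_lit 16, nat_lit 14, nat_lit 12] V
theorem d0 : Nat.beq (rng f3 (nat_lit 0) (nat_lit 1154)) (nat_lit 0) = true := by decide +kernel
theorem h3 : ∀ i < 1154, f3 i = 0 := by
  have h := zero_lt_zero f3
  have h := zero_lt_add (a := (nat_lit 0)) (n := (nat_lit 1154)) (b := (nat_lit 1154)) h d0 rfl
  exact h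
theorem loc : Loc q 6 7 8 R := md.loc sy (by decide) (ps := 64) (pr := 128) ⟨rfl, rfl⟩ h2 (U := U)
  (upTo_beq (by decide +kernel)) (l := [([nat_lit 7, nat_lit 6, nat_lit 5], (nat_lit 3))]) (by decide +kernel) ⟨by decide, by decide⟩
  (md.cls (by decide +kernel) h3 fun _ _ => trivial) (by rw [Spor.card22]; decide)
def cH_t : TL := (TL.node (TL.leaf []) (TL.leaf [nat_lit 3, nat_lit 4, nat_lit 7]))
noncomputable def cH (i : ℕ) : List ℕ := TL.get cH_t i
def cI_t : TL := (TL.node (TL.leaf []) (TL.leaf [nat_lit 7, nat_lit 7, nat_lit 7, nat_lit 4, nat_lit 4, nat_lit 4, nat_lit 3, nat_lit 3, nat_lit 3]))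
noncomputable def cI (i : ℕ) : List ℕ := TL.get cI_t i
def cW_t : TL := (TL.node (TL.leaf []) (TL.leaf [nat_lit 6, nat_lit 3]))
noncomputable def cW (i : ℕ) : List ℕ := TL.get cW_t i
def cE (i : ℕ) : ℕ := Nat.land (Nat.shiftRight (nat_lit 2) (Nat.mul (nat_lit 1) i)) (nat_lit 1)
theorem core : Core q 6 7 8 := md.core (k := 1) loc (by decide) (H := cH) (H' := cI) (W := cW) (E := cE) (pk := 2) rfl
  (upTo_beq (by decide +kernel))

end Cfsg.Agent.Ct.M22o
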