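import Cfsg.Agent.Lib.Cert.M22o.L
import Cfsg.Agent.Lib.Cert.Out2

set_option autoImplicit false
set_option maxRecDepth 100000

namespace Cfsg.Agent.Ct.M22o

open Cfsg.Agent.PC

open Cfsg.Agent.Fi Cfsg.Agent.Ct
def Ve_t : TL := (TL.node (TL.node (TL.node (TL.leaf [nat_lit 0, nat_lit 13, nat_lit 14, nat_lit 0, nat_lit 14, nat_lit 13, nat_lit 0, nat_lit 14, nat_lit 0, nat_lit 13, nat_lit 14, nat_lit 0, nat_lit 13, nat_lit 14, nat_lit 0, nat_lit 14, nat_lit 13, nat_lit 0, nat_lit 13, nat_lit 0, nat_lit 14, nat_lit 0, nat_lit 14, nat_lit 0, nat_lit 14, nat_lit 13, nat_lit 14, nat_lit 0, nat_lit 13, nat_lit 14, nat_lit 13, nat_lit 0, nat_lit 14, nat_lit 13, nat_lit 0, nat_lit 14, nat_lit 0, nat_lit 13]) (TL.leaf [nat_lit 0, nat_lit 14, nat_lit 0, nat_lit 13, nat_lit 14, nat_lit 13, nat_lit 0, nat_lit 14, nat_lit 0, nat_lit 13, nat_lit 14, nat_lit 13, nat_lit 14, nat_lit 0, nat_lit 13, nat_lit 0, nat_lit 14, nat_lit 0, nat_lit 14, nat_lit 0, nat_lit 13, nat_lit 0, nat_lit 14, nat_lit 0, nat_lit 14, nat_lit 13, nat_lit 14, nat_lit 0,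 nat_lit 14, nat_lit 0, nat_lit 13, nat_lit 14, nat_lit 0, nat_lit 14, nat_lit 13, nat_lit 14, nat_lit 13, nat_lit 14, nat_lit 13, nat_lit 0, nat_lit 13, nat_lit 14, nat_lit 0, nat_lit 14, nat_lit 0])) (TL.leaf [nat_lit 13, nat_lit 0, nat_lit 14, nat_lit 0, nat_lit 13, nat_lit 14, nat_lit 13, nat_lit 0, nat_lit 13, nat_lit 14, nat_lit 0, nat_lit 14, nat_lit 13, nat_lit 0, nat_lit 14, nat_lit 13, nat_lit 0, nat_lit 14, nat_lit 13, nat_lit 0, nat_lit 14, nat_lit 0, nat_lit 13, nat_lit 14, nat_lit 0, nat_lit 14, nat_lit 13, nat_lit 14, nat_lit 0, nat_lit 13, nat_lit 14, nat_lit 13, nat_lit 14, nat_lit 0, nat_lit 14])) (TL.node (TL.node (TL.leaf [nat_lit 13, nat_lit 0, nat_lit 13, nat_lit 14, nat_lit 0, nat_lit 13, nat_lit 14, nat_lit 0, nat_lit 14, nat_lit 13, nat_lit 0, nat_lit 14, nat_lit 13, nat_lit 0, nat_lit 13]) (TL.leaf [nat_lit 0, nat_lit 13, nat_lit 14, nat_lit 0, nat_lit 13, nat_lit 0, nat_lit 13, nat_lit 14, nat_lit 0, nat_lit 14, nat_lit 13, nat_lit 0, nat_lit 14, nat_lit 13, nat_lit 14, nat_lit 13, nat_lit 0, nat_lit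 14, nat_lit 0, nat_lit 14, nat_lit 13, nat_lit 0, nat_lit 14, nat_lit 0, nat_lit 13, nat_lit 14, nat_lit 0, nat_lit 13])) (TL.leaf [nat_lit 14, nat_lit 0, nat_lit 14, nat_lit 0, nat_lit 14, nat_lit 13, nat_lit 0, nat_lit 14, nat_lit 13, nat_lit 14, nat_lit 0, nat_lit 14, nat_lit 13, nat_lit 14, nat_lit 0, nat_lit 13, nat_lit 14, nat_lit 0, nat_lit 14, nat_lit 13, nat_lit 0, nat_lit 14, nat_lit 13, nat_lit 0, nat_lit 14, nat_lit 13, nat_lit 14, nat_lit 0, nat_lit 14, nat_lit 13, nat_lit 14, nat_lit 13, nat_lit 0, nat_lit 14, nat_lit 0, nat_lit 14, nat_lit 0, nat_lit 14, nat_lit 13, nat_lit 0, nat_lit 13, nat_lit 14, nat_lit 13, nat_lit 0, nat_lit 14, nat_lit 13, nat_lit 0, nat_lit 14, nat_lit 0, nat_lit 13])))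
noncomputable def Ve (i : ℕ) : List ℕ := TL.get Ve_t i
theorem cC : 384 ∣ Nat.card (Subgroup.centralizer {q 0}) := loc.cen ▸ md.dvdC sy (by decide) (l := [([nat_lit 7, nat_lit 6, nat_lit 5], (nat_lit 3))]) (by decide +kernel) ⟨by decide, by decide⟩
theorem au : Au (q 0) := loc.autz
theorem cs : clS Q B sg si (nat_lit 24) (nat_lit 15) (nat_lit 0) [nat_lit 17, nat_lit 1, nat_lit 16, nat_lit 14, nat_lit 12] = 0 := by decide +kernel
theorem cl : Cl q sg 0 V 1155 := md.cl cs h3 cC (by rw [Spor.card22]; decide)
theorem o2 : CardLE (Fx q [nat_lit 14, nat_lit 13, nat_lit 0]) 1 := (md22).fin (gen_sub_top Spor.gen22) md Ve (by decide +kernel)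
def W1_t : TL := (TL.node (TL.node (TL.leaf [nat_lit 15, nat_lit 13, nat_lit 15, nat_lit 13, nat_lit 15, nat_lit 13, nat_lit 15, nat_lit 13]) (TL.leaf [nat_lit 15, nat_lit 0, nat_lit 15, nat_lit 0, nat_lit 15, nat_lit 0, nat_lit 15, nat_lit 0, nat_lit 15, nat_lit 0, nat_lit 15, nat_lit 0])) (TL.node (TL.leaf [nat_lit 15, nat_lit 0, nat_lit 13, nat_lit 0, nat_lit 15, nat_lit 0, nat_lit 13, nat_lit 0, nat_lit 15, nat_lit 0, nat_lit 13, nat_lit 0, nat_lit 15, nat_lit 0, nat_lit 13, nat_lit 0, nat_lit 15, nat_lit 0, nat_lit 13, nat_lit 0]) (TL.leaf [nat_lit 15, nat_lit 0, nat_lit 13, nat_lit 15, nat_lit 0, nat_lit 15, nat_lit 0, nat_lit 15, nat_lit 0, nat_lit 13, nat_lit 15, nat_lit 0, nat_lit 15, nat_lit 0, nat_lit 15, nat_lit 0, nat_lit 13, nat_lit 15, nat_lit 0, nat_lit 15, nat_lit 0])))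
noncomputable def W1 (i : ℕ) : List ℕ := TL.get W1_t i
def Z1_t : TN := (TN.node (TN.node (TN.leaf (nat_lit 0x90320a40c829052064148190320a4148190520a40c8190320a4148190520840c8190320641c83905206414839032064248190320640c8190920440c829032044248190520a40c8290920640c8390520640c8190320640c8190320640c8190320640c8190320641c8190320640c829032064148190320640c8190320640c8190320e40c81903206410819032064088190320640c8110921240c8290320640c8290720640c8190520640c81903206424818832064088290320640c8190720a40c819032064148188320640c8190320640c8190320640c8190320620c4190320640c8188320a4148190320640c839052064144190320640c8290320a40c8190320e40c8190320640c8190520a40c8290320a40c8190320640c8190520640c8190320640c8190320640c8190320440c8190220640c8290320a40c8190320640c8290320640c819032064148190320e4088190320641c819032064148190421040c8190320640c8190520640c8190520640c8190320640c8188320640c8190320620c8190520640c8190320640c8190320a40c4190320a4148290520640c4190320a40c8190320640c8290320640c8190320640c8190320640c8190320a40c8110520640c8190520640c8290310640c8190310640c8190520640c8290520640c819032064148190320640c8290320640c8390320640c8190320640c8190320640c8190720641c8190320a41c8190320e40c8190320640c8390320640c819022064148290720a42481903206408009032124208290920a4088190920640c8390520a4148190320641c8190520a4148290520a41c8190320641c8190520640c8190320640c8290520640c8190320640c819032064108190320440c8190320640c8190320640c839032064248290920a4148490720a4208290720a4108200120a41c8290720e4248490520a4108290520a4148290920a4148490520a41c8290400242082))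 (TN.leaf (nat_lit 0x12064148290520640c839032064148210320e40c8290220641c8190920a40c8190720a40c8190920e4248290620a4148290520a40c849032064148290520a4148190520640c82903208414821032064148190520a41482905206414819052064148290320a4148190320840c8290320a4148190320640c839022064088190320640c8190320640c8190320640c8190320640c8190320640c8190320640c8290320a4248290720640c8190320640c8190310640c41))) (TN.leaf (nat_lit 0x90320a40c829032064148190320640c8190320a4088290520640c8190520640c8190320a40c819032064148290320a4248190720640c81903206414819032064088190320640c8390320640c8190220640c8190320640c8190320640c8190520640c8190320640c8190320e40c8190320641c819032064148390320e40c8190320640c8190320e40c8190320640c8290320640c8390320620c8190320640c8190320a40c81902f1240c8190320640c8390520640c8288320640c819032044148190320641c8190520640c8190320640c8390320a420819040024148190520e40c8190520c40c8190921240c821052124148290920a4148390320a40c8190520640c829032064088190320640c8190520640c8190520640c8190320a40c8190520640c8190520640c8110320640c819032064148290520640c8190320640c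8190320640c8190320e40c8190321240c819032064148190320a41c819032064148190320640c81905206424819032044088190320640c8190520640c8190720640c819052064088190320a40c8190320a40c8290320641c8190320e40c8110520640c8290320641c839032064148190520e4148190320640c8190520e41c8290520640c8190720640c8190720a4148390720640c8110920a4148190320640c819092064148390520640c8190320e4148190320a40c8190320640c819052064088490720640c8190220a40c8190320a40c8190320a41c8190321240c8190320640c8190320640c8290320440c8290920640c8290320e40c8190720e40c8490320a41c8290320641c8190720640c8390320a4148190320e4108190520640c8190320e40c819072064148110520640c819072064108190720a40c819072064148190320e414819032064108190720e40c8290521240c8290320a40c849032064148110320640c8290520a40c8290520a40c819052064088290320e40c8190320e40c81)))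
noncomputable def Z1 (i : ℕ) : ℕ := get9 Z1_t (nat_lit 11) (nat_lit 2047) i
noncomputable def u1 : ℕ → ℕ := lcE Q B (nat_lit 24) (nat_lit 15) sg si (nat_lit 0) V W1 (nat_lit 4) (nat_lit 0) Z1
def W0_t1 : TL := (TL.node (TL.node (TL.node (TL.node (TL.node (TL.node (TL.leaf [nat_lit 0, nat_lit 15, nat_lit 0, nat_lit 15, nat_lit 0, nat_lit 15]) (TL.leaf [nat_lit 0, nat_lit 15])) (TL.leaf [])) (TL.node (TL.leaf []) (TL.leaf []))) (TL.node (TL.node (TL.leaf []) (TL.leaf [])) (TL.node (TL.leaf []) (TL.leaf [])))) (TL.node (TL.node (TL.node (TL.leaf []) (TL.leaf [])) (TL.node (TL.leaf []) (TL.leaf []))) (TL.node (TL.node (TL.leaf []) (TL.leaf [])) (TL.node (TL.leaf []) (TL.leaf []))))) (TL.node (TL.node (TL.node (TL.node (TL.leaf []) (TL.leaf [])) (TL.node (TL.leaf []) (TL.leaf []))) (TL.node (TL.node (TL.leaf []) (TL.leaf [])) (TL.node (TL.leaf []) (TL.leaf [])))) (TL.node (TL.node (TL.node (TL.leaf []) (TL.leaf [])) (TL.node (TL.leaf []) (TL.leaf []))) (TL.node (TL.node (TL.leaf []) (TL.leaf [])) (TL.node (TL.leaf []) (TL.leaf []))))))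
def W0_t2 : TL := (TL.node (TL.node (TL.node (TL.node (TL.node (TL.leaf []) (TL.leaf [])) (TL.node (TL.leaf []) (TL.leaf []))) (TL.node (TL.node (TL.leaf []) (TL.leaf [])) (TL.node (TL.leaf []) (TL.leaf [])))) (TL.node (TL.node (TL.node (TL.leaf []) (TL.leaf [])) (TL.node (TL.leaf []) (TL.leaf []))) (TL.node (TL.node (TL.leaf []) (TL.leaf [])) (TL.node (TL.leaf []) (TL.leaf []))))) (TL.node (TL.node (TL.node (TL.node (TL.leaf []) (TL.leaf [])) (TL.node (TL.leaf []) (TL.leaf []))) (TL.node (TL.node (TL.leaf []) (TL.leaf [])) (TL.node (TL.leaf []) (TL.leaf [])))) (TL.node (TL.node (TL.node (TL.leaf []) (TL.leaf [])) (TL.node (TL.leaf []) (TL.leaf []))) (TL.node (TL.node (TL.leaf []) (TL.leaf [])) (TL.node (TL.leaf []) (TL.leaf []))))))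
def W0_t : TL := (TL.node W0_t1 W0_t2)
noncomputable def W0 (i : ℕ) : List ℕ := TL.get W0_t i
def Z0_t : TN := (TN.node (TN.node (TN.leaf (nat_lit 0x90320640c8190200240c819032064080090320640c8190200240c819032040048190320640c8100120640c81903204004810000000048100120400c810000000000090320640c8100120640c8190200240c8190200240c819032040048190320640c8110320640c8190320640c8190320640c819032064080000120640c8190320640c819032064080000120640c819032040000000000040c8190320640c8190320640c8190320640c81903204004819032064080090320640c819032064080000120640881903204000000000024088190320640c819032044088190320640c8110320640c8190320640c819032064088190320640c8190320640c8190320640c8190320640c819032064080090320640c8100120440c8190320640c8190200240c8190320440c810000024080090200240c819032064080090320640c8190200240c819032064080090320640c8100120640c8190320640c8190200040c8100120640c81903206408009032040048100120640c8100110640c819032040000090320640c4190320640c810012064080090320640c819031064080090320640c819032040048190200220c8190320640c819020000048190320640c8110320640c810012040048190320640c8190320640c8100120640c8100120640c81902002408009020000048190320620c819032064080090320640c819032040000090310640c8190320640c81883206408009031040048100120640c8190320640c819032044088100000240c81000002408000000000048190320640c8190320640c8190320640c8190320640c8190320640c8190200240c81903206408000012040048190320640c819032064080090320640c8190200040c8190320640c8190320640c810012040048188320640c41903204000009032064080090320640c81903206208009032064080090320640c818832064080090320640c8190320400000))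 (TN.leaf (nat_lit 0x12040000090320640c81903204004819032040048190320640c81903206408009032040048190320640c8190220640c819020000048190320640c8190320640c8190320640c819022044088190320640c8190320640c8190320640c819032064088190220640c8190320640c8190320640c8190320640c819032064088190320640c819022064088190320640c8190320640c8190220640c8190320640c8190320440c8190320440c8190320640c8110320440c81))) (TN.leaf (nat_lit 0x90320640c8190320640c8190320640c819032044088190320640c8190320640c8190320640c8190320640c8190320440c8190320640c811032064088190320640c8190320640c8190320640c8190220640c8110320640c8190320640c8190200240c819020000048190320640c4190200240c8190320640c8100120620c819032064080090320640c4190320620c810012040048190320640c8100120640c810012064088190200240c8190200240c8190220640c8190320640c8190320400000903206408009032064080090200240c811032040048190320640c8190320640c8100120640c8110320640c8100000240c8190320640c819032040048190200240c8100000240c8190320640c819022040048190200240c8190320640c8190320640c8190200040c8100120640c819020000048190320640c8100120640c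8100120640c8190320440c8190200240c8110320640c8190320640c8100000240c819032040048190200000481903206408009032040048190320640c8190320640800903204000009032064080090320640c8190320640c819032064080000000240c8190200240c810012040048190320640c819032040048190320640c8100000240c8190320640c8190200240c8190320640c8100120640c819032040048100120640c819032040048100120640c8190320640c81903204004819032064080090320640c8190200240c819020000048190320640c8190200240c810012064080000120640c8190320620c8100000240c81001204004819032064080090320640c819032064080090320640c8190320640c819032064080090320640c8190320640c8190320640c8100000240c8190320640c4190320640c8190320640c8190320640c8190320640c4190320640c8190200240800903206408009032040048100120640c8100120640c8190320640c81903206408009032040048190320640c81)))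
noncomputable def Z0 (i : ℕ) : ℕ := get9 Z0_t (nat_lit 11) (nat_lit 2047) i
noncomputable def u0 : ℕ → ℕ := lcE Q B (nat_lit 24) (nat_lit 15) sg si (nat_lit 0) V W0 (nat_lit 1) (nat_lit 1) Z0
theorem v1x0 : Nat.beq (rng u1 (nat_lit 0) (nat_lit 1155)) (nat_lit 0) = true := by decide +kernel
theorem v0x0 : Nat.beq (rng u0 (nat_lit 0) (nat_lit 1155)) (nat_lit 0) = true := by decide +kernel
theorem k1 : ∀ i < 1155, u1 i = 0 := by
  have h := zero_lt_zero u1
  have h := zero_lt_add (a := (nat_lit 0)) (n := (nat_lit 1155)) (b := (nat_lit 1155)) h v1x0 rfl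
  exact h
theorem o1 : CardLE (Fx q [nat_lit 13, nat_lit 0]) 4 := md.lvc cs cl au (aw := [nat_lit 9, nat_lit 11, nat_lit 8, nat_lit 8, nat_lit 10]) (y := 14) (by decide +kernel) k1 (a := 4) (by decide +kernel) o2
theorem k0 : ∀ i < 1155, u0 i = 0 := by
  have h := zero_lt_zero u0
  have h := zero_lt_add (a := (nat_lit 0)) (n := (nat_lit 1155)) (b := (nat_lit 1155)) h v0x0 rfl
  exact h
theorem o0 : CardLE (Fx q [nat_lit 0]) 768 := md.lvc cs cl au (aw := [nat_lit 10, nat_lit 10]) (y := 13) (by decide +kernel) k0 (a := 192) (by decide +kernel) o1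
theorem aut : Nat.card (MulAut (G22)) ≤ 1155 * 768 := cl.top au o0
def rl (i : ℕ) : ℕ := Nat.land (Nat.shiftRight (nat_lit 0x2d5a4e5183dcd62d4941cc520c41) (Nat.mul (nat_lit 5) i)) (nat_lit 31)
def ri (i : ℕ) : ℕ := Nat.land (Nat.shiftRight (nat_lit 0x56939460f7358b525073148310400) (Nat.mul (nat_lit 5) i)) (nat_lit 31)
noncomputable def Tr (j c : ℕ) : ℕ := ri ((Spor.TP Spor.c24) j (rl c))
theorem mr : Md (fun c => Spor.gp (rl c)) 22 [nat_lit 16, nat_lit 0, nat_lit 15, nat_lit 13, nat_lit 11] (sub G22 (Spor.fam Spor.c24)) Tr 6 := (md22).rl (gen_sub_top Spor.gen22) rl ri _ _ (by decide +kernel) (by decide +kernel) (by decide)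
def pi_t : TN := (TN.leaf (nat_lit 0x2279a6b07a9a65ba43a30a440440))
noncomputable def pi (i : ℕ) : ℕ := get9 pi_t (nat_lit 5) (nat_lit 31) i
def pj_t : TN := (TN.leaf (nat_lit 0x2279a6b07a9a65ba43a30a440440))
noncomputable def pj (i : ℕ) : ℕ := get9 pj_t (nat_lit 5) (nat_lit 31) i
def Wo_t : TL := (TL.node (TL.node (TL.node (TL.leaf [nat_lit 0, nat_lit 0]) (TL.leaf [nat_lit 0, nat_lit 0, nat_lit 3, nat_lit 3, nat_lit 3, nat_lit 3, nat_lit 1, nat_lit 3, nat_lit 3, nat_lit 3, nat_lit 3, nat_lit 4, nat_lit 4, nat_lit 4, nat_lit 4, nat_lit 4, nat_lit 4, nat_lit 3, nat_lit 1, nat_lit 2])) (TL.leaf [nat_lit 2, nat_lit 2])) (TL.node (TL.node (TL.leaf [nat_lit 1, nat_lit 0, nat_lit 2, nat_lit 1, nat_lit 2]) (TL.leaf [nat_lit 3, nat_lit 2, nat_lit 2, nat_lit 4, nat_lit 4, nat_lit 4, nat_lit 4, nat_lit 4, nat_lit 4, nat_lit 5, nat_lit 5, nat_lit 5, nat_lit 5, nat_lit 3, nat_lit 3, nat_lit 3, nat_lit 3, nat_lit 2, nat_lit 2, nat_lit 5, nat_lit 5])) (TL.leaf [nat_lit 2, nat_lit 3])))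
noncomputable def Wo (i : ℕ) : List ℕ := TL.get Wo_t i
noncomputable def g1 : ℕ → ℕ := nzE Tr (nat_lit 22) (nat_lit 6) pi pj Wo
theorem ge0 : Nat.beq (rng g1 (nat_lit 0) (nat_lit 22)) (nat_lit 0) = true := by decide +kernel
theorem l1 : ∀ i < 22, g1 i = 0 := by
  have h := zero_lt_zero g1
  have h := zero_lt_add (a := (nat_lit 0)) (n := (nat_lit 22)) (b := (nat_lit 22)) h ge0 rfl
  exact h
noncomputable def g2 : ℕ → ℕ := ufE Tr [[nat_lit 5, nat_lit 5, nat_lit 5, nat_lit 5, nat_lit 0, nat_lit 0, nat_lit 5, nat_lit 5, nat_lit 5, nat_lit 5, nat_lit 0, nat_lit 0, nat_lit 2, nat_lit 4, nat_lit 4, nat_lit 4, nat_lit 4, nat_lit 4, nat_lit 4, nat_lit 1, nat_lit 4, nat_lit 4, nat_lit 4, nat_lit 4, nat_lit 4, nat_lit 4, nat_lit 0, nat_lit 0, nat_lit 2, nat_lit 1], [nat_lit 4, nat_lit 5, nat_lit 3, nat_lit 4, nat_lit 5, nat_lit 5, nat_lit 5, nat_lit 5, nat_lit 2, nat_lit 4, nat_lit 4, nat_lit 4, nat_lit 4, nat_lit 4, nat_lit 4]] (nat_lit 16)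
theorem gf0 : Nat.beq (rng g2 (nat_lit 0) (nat_lit 22)) (nat_lit 0) = true := by decide +kernel
theorem l2 : ∀ i < 22, g2 i = 0 := by
  have h := zero_lt_zero g2
  have h := zero_lt_add (a := (nat_lit 0)) (n := (nat_lit 22)) (b := (nat_lit 22)) h gf0 rfl
  exact h
theorem out : Nat.card (Cfsg.Out (G22)) = 2 := by
  obtain ⟨α, h⟩ := (mr).outer (gen_sub_top Spor.gen22) (by decide +kernel) l1 (x := 16) (by decide) (by decide +kernel) l2
  exact out_two (ctr22) aut (by rw [Spor.card22]; decide) ((mr).outer3 h (ws := [[nat_lit 3, nat_lit 0], [], [nat_lit 4, nat_lit 4], [nat_lit 0, nat_lit 5, nat_lit 5, nat_lit 3], [nat_lit 0, nat_lit 0, nat_lit 4], [nat_lit 0, nat_lit 4, nat_lit 5]]) (y := 1) (by decide +kernel) (by decide +kernel))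

end Cfsg.Agent.Ct.M22o
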